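import Cfsg.Agent.OddHalf.D3.NormOne
import Cfsg.Agent.OddHalf.D3.ThreeEnd
import Cfsg.Agent.OddHalf.D3.TwoFull
import Cfsg.Agent.OddHalf.D3.Plug
import Cfsg.Agent.OddHalf.Soft
import Cfsg.Agent.OddHalf.Known
import Cfsg.Agent.Schreier.Cases
import Cfsg.Agent.OddHalf.D3.End
import Cfsg.Agent.OddHalf.D3.EndCent

-- merged: Cfsg.Agent.OddHalf.D3.SCThree
section

/-!
# ODD D3 (iii), `n ≥ 3`: (SC)

`sc3`: `K` terminal, `|Z(K)|` odd, commuting with at least two other conjugates: an involution centralising a member of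
the class `Λ'` and stabilising the class `Λ` exists only for `Λ = Λ'`.
-/

set_option autoImplicit false

namespace Cfsg.Agent.OddHalf.D3.SCThree

open Cfsg Cfsg.Agent.OddHalf.D3.ThreeDefs Cfsg.Agent.OddHalf.D3.ThreeFam Cfsg.Agent.OddHalf.D3.ThreeMain
open Cfsg.Agent.OddHalf.D3.FamTerm Cfsg.Agent.OddHalf.D3.NormOne Cfsg.Agent.OddHalf.D3.ThreeEnd

universe u

variable {G : Type u} [Group G]

/-- at least three commuting conjugates -/
def Three (K : Subgroup G) : Prop :=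
  ∃ B ∈ Cj K, ∃ D ∈ Cj K, B ≠ K ∧ D ≠ K ∧ D ≠ B ∧ Rel K B ∧ Rel K D

theorem three_mem {K : Subgroup G} (h3 : Three K) :
    ∀ Λ ∈ Fm K, ∀ A B : Subgroup G, ∃ D ∈ Λ, D ≠ A ∧ D ≠ B := by
  rintro _ ⟨X, ⟨g, rfl⟩, rfl⟩ A B
  obtain ⟨P, hP, Q, hQ, hPK, hQK, hQP, hrP, hrQ⟩ := h3
  have m1 : cj g K ∈ cls K (cj g K) := ⟨Cj_conj (Cj_self K) g, Or.inl rfl⟩
  have m2 : cj g P ∈ cls K (cj g K) := ⟨Cj_conj hP g, hrP.conj g⟩
  have m3 : cj g Q ∈ cls K (cj g K) := ⟨Cj_conj hQ g, hrQ.conj g⟩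
  have n1 : cj g P ≠ cj g K := fun h => hPK (cj_injective g h)
  have n2 : cj g Q ≠ cj g K := fun h => hQK (cj_injective g h)
  have n3 : cj g Q ≠ cj g P := fun h => hQP (cj_injective g h)
  by_cases h1 : cj g K = A
  · by_cases h2 : cj g P = B
    · exact ⟨_, m3, by rw [← h1]; exact n2, by rw [← h2]; exact n3⟩
    · exact ⟨_, m2, by rw [← h1]; exact n1, h2⟩
  · by_cases h2 : cj g K = B
    · by_cases h3 : cj g P = A
      · exact ⟨_, m3, by rw [← h3]; exact n3, by rw [← h2]; exact n2⟩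
      · exact ⟨_, m2, h3, by rw [← h2]; exact n1⟩
    · exact ⟨_, m1, h1, h2⟩

theorem fam3 [Finite G] (hev : EvQ G) (hbal : Bal G) {K : Subgroup G} (h : KH K)
    (hcen : ∀ a ∈ K, a * a = 1 → (∀ b ∈ K, a * b = b * a) → a = 1) (h3 : Three K) : Fam3 (Fm K) := by
  have F : Fam (Fm K) := by
    obtain ⟨P, hP, Q, hQ, hPK, hQK, hQP, hrP, hrQ⟩ := h3
    exact fam h hcen ⟨P, hP, hPK, hrP⟩
  exact { toFam := F
          three := three_mem h3
          norm := fun Λ hΛ Λ' hΛ' hne v hv hvS B hB => norm hev hbal h F (three_mem h3) hΛ hΛ' hne hv hvS hB }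

/-- **(SC)**, `n ≥ 3` -/
theorem sc3 [Finite G] (hev : EvQ G) (hbal : Bal G) {K : Subgroup G} (h : KH K)
    (hcen : ∀ a ∈ K, a * a = 1 → (∀ b ∈ K, a * b = b * a) → a = 1) (h3 : Three K)
    {Λ Λ' : Set (Subgroup G)} (hΛ : Λ ∈ Fm K) (hΛ' : Λ' ∈ Fm K) {u : G} (hu : InU Λ' u) (huS : u ∈ St Λ) :
    Λ = Λ' := by
  by_contra hne
  exact no_adj (fam3 hev hbal h hcen h3) hΛ hΛ' hne ⟨u, hu, huS⟩

end Cfsg.Agent.OddHalf.D3.SCThree

end

-- merged: Cfsg.Agent.OddHalf.D3.OddCase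
section

/-!
# ODD D3(b): the frame of a terminal component with trivial centre

`kh_of`, `fam_of`, `fam2_of`: the frames `KH`, `Fam`, `Fam2` for the conjugates of a terminal component `K` of a group
`G` in the context `Ctx G`. `scd`: `n = 2`, no adjacent classes (from the impossibility of (B2)).
-/

set_option autoImplicit false

namespace Cfsg.Agent.OddHalf.D3b.OddCase

open Cfsg Cfsg.Agent.OddHalf.Iface
open Cfsg.Agent.OddHalf.D3.ThreeDefs Cfsg.Agent.OddHalf.D3.ThreeFam Cfsg.Agent.OddHalf.D3.FamTerm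
open Cfsg.Agent.OddHalf.D3.SCThree Cfsg.Agent.OddHalf.D3.Swap Cfsg.Agent.OddHalf.D3.TwoCfg
open Cfsg.Agent.OddHalf.D3.TwoKey Cfsg.Agent.OddHalf.D3.TwoFull
open Cfsg.Agent.Schreier.Basic (Sch)
open scoped commutatorElement

universe u

variable {G : Type u} [Group G] {K : Subgroup G}

theorem termH_of (h : Term0 G K) : TermH K := by
  obtain ⟨t, ht, hc⟩ := h.comp
  refine ⟨⟨t, ht, hc.1, hc.2⟩, fun y hy hyK => ?_⟩
  have := h.term y hy hyK
  exact ⟨this.1, this.2⟩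

theorem kh_of [Finite G] (hb : D3.Plug.Bal G) (h : Term0 G K) : KH K := by
  obtain ⟨t, ht, hc⟩ := h.comp
  exact ⟨termH_of h, D3.Plug.even_of_comp hb ht (D3.Plug.comp_iff.2 hc)⟩

/-- the centre is trivial or contains an involution -/
theorem center_cases [Finite G] (hb : D3.Plug.Bal G) (h : Term0 G K) :
    Subgroup.center K = ⊥ ∨ ∃ z ∈ K, z * z = 1 ∧ z ≠ 1 ∧ ∀ a ∈ K, z * a = a * z := by
  obtain ⟨t, ht, hc⟩ := h.comp
  have h2 := Soft.CompOf.center_isPGroup (hb t ht) hc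
  by_cases hz : Subgroup.center K = ⊥
  · exact Or.inl hz
  right
  obtain ⟨⟨x, hx⟩, hx1⟩ := (Subgroup.ne_bot_iff_exists_ne_one).mp hz
  have h3 : IsPGroup 2 ((Subgroup.center K).map K.subtype) := h2.map _
  have hxm : (x : G) ∈ (Subgroup.center K).map K.subtype := ⟨x, hx, rfl⟩
  obtain ⟨n, hn2, hn1⟩ := exists_pow_inv h3 hxm (fun h => hx1 (by
    apply Subtype.ext
    exact Subtype.ext h))
  refine ⟨(x : G) ^ n, pow_mem x.2 n, hn2, hn1, ?_⟩
  intro a ha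
  have h4 := Subgroup.mem_center_iff.mp (pow_mem hx n) ⟨a, ha⟩
  exact (congrArg Subtype.val h4).symm

theorem quasi_of (h : Term0 G K) : IsQuasisimple K := by
  obtain ⟨t, ht, hc⟩ := h.comp
  exact Soft.CompOf.quasisimple hc

theorem simple_of (h : Term0 G K) (hz : Subgroup.center K = ⊥) : IsSimpleGroup K := by
  have h1 := (quasi_of h).2
  have e : K ⧸ Subgroup.center K ≃* K := (QuotientGroup.quotientMulEquivOfEq hz).trans QuotientGroup.quotientBot
  exact Known.isSimple_congr e h1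

theorem sch_of (C : Ctx G) (hSch : Cfsg.Agent.Schreier.Cases.SchFor.{u} @IsKnownSimple') (h : Term0 G K)
    (hz : Subgroup.center K = ⊥) : Sch K := by
  have := C.fin
  have := C.simple
  obtain ⟨t, ht, hc⟩ := h.comp
  have hq := Soft.CompOf.quasisimple hc
  have hs := hq.2
  have h1 : Sch (K ⧸ Subgroup.center K) := hSch _ (Soft.quo_na hq)
    (Known.known_quotient C.kproper K (Soft.CompOf.ne_top C.na ht hc) _ hs (Soft.quo_na hq))
  exact h1.of_equiv ((QuotientGroup.quotientMulEquivOfEq hz).trans QuotientGroup.quotientBot)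

theorem cent_of (hz : Subgroup.center K = ⊥) :
    ∀ a ∈ K, a * a = 1 → (∀ b ∈ K, a * b = b * a) → a = 1 := by
  intro a ha _ hab
  have h1 : (⟨a, ha⟩ : K) ∈ Subgroup.center K := Subgroup.mem_center_iff.mpr fun b => Subtype.ext (hab b b.2).symm
  rw [hz, Subgroup.mem_bot] at h1
  exact congrArg Subtype.val h1

theorem equiv_cj (g : G) (K : Subgroup G) : Nonempty (K ≃* cj g K) :=
  ⟨K.equivMapOfInjective (MulAut.conj g).toMonoidHom (MulAut.conj g).injective⟩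

theorem mem_Cj_of_mem {Λ : Set (Subgroup G)} (hΛ : Λ ∈ Fm K) {A : Subgroup G} (hA : A ∈ Λ) : A ∈ Cj K := by
  obtain ⟨B, hB, rfl⟩ := hΛ
  exact hA.1

/-- at most two members -/
theorem le_two [Finite G] (h : KH K) (h3 : ¬ Three K) {Λ : Set (Subgroup G)} (hΛ : Λ ∈ Fm K) : AtMostTwo Λ := by
  obtain ⟨A, hA, rfl⟩ := hΛ
  have hrel : ∀ B ∈ cls K A, ∀ D ∈ cls K A, D3.FamTerm.Rel B D := fun B hB D hD =>
    hB.2.symm.trans (h.conj hB.1).term (h.conj hD.1).term (h.conj hA).ev hD.2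
  intro B hB D hD E hE
  by_contra hcon
  push Not at hcon
  obtain ⟨hBD, hBE, hDE⟩ := hcon
  obtain ⟨x, hx⟩ := hB.1
  have e1 : cj x⁻¹ B = K := by rw [hx, cj_inv_cj]
  refine h3 ⟨cj x⁻¹ D, Cj_conj hD.1 _, cj x⁻¹ E, Cj_conj hE.1 _, ?_, ?_, ?_, ?_, ?_⟩
  · intro h1
    rw [← e1] at h1
    exact hBD (cj_injective _ h1).symm
  · intro h1
    rw [← e1] at h1
    exact hBE (cj_injective _ h1).symm
  · intro h1
    exact hDE (cj_injective _ h1).symm
  · have := (hrel B hB D hD).conj x⁻¹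
    rwa [e1] at this
  · have := (hrel B hB E hE).conj x⁻¹
    rwa [e1] at this

/-- **the frame for `n = 2`** -/
theorem fam2_of (C : Ctx G) (hSch : Cfsg.Agent.Schreier.Cases.SchFor.{u} @IsKnownSimple') (h : Term0 G K)
    (hz : Subgroup.center K = ⊥) (F : Fam (Fm K)) (h3 : ¬ Three K) : Fam2 (Fm K) := by
  have hfin := C.fin
  have hK := kh_of C.bal h
  exact { toFam := F
          le2 := fun Λ hΛ => le_two hK h3 hΛ
          norm := by
            intro Λ hΛ Λ' hΛ' hne L hL e he he2 heS M hM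
            obtain ⟨g, rfl⟩ := mem_Cj_of_mem hΛ hL
            obtain ⟨φ⟩ := equiv_cj g K
            exact norm_of_mem F hΛ hΛ' (le_two hK h3 hΛ) hL
              (Cfsg.Agent.SignalizersComponents.Components.isQuasisimple_of_mulEquiv φ (quasi_of h))
              ((sch_of C hSch h hz).of_equiv φ) he he2 heS hM
          simple := by
            intro Λ hΛ A hA
            obtain ⟨g, rfl⟩ := mem_Cj_of_mem hΛ hA
            obtain ⟨φ⟩ := equiv_cj g K
            exact Known.isSimple_congr φ (simple_of h hz) }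

/-- a commuting conjugate gives a second member -/
theorem two_of {g : G} (hne : cj g K ≠ K) (hcomm : ⁅K, cj g K⁆ = ⊥) : ∃ B ∈ Cj K, B ≠ K ∧ Rel K B := by
  refine ⟨cj g K, ⟨g, rfl⟩, hne, Or.inr ?_⟩
  intro x hx y hy
  have h1 : ⁅x, y⁆ ∈ (⊥ : Subgroup G) := by rw [← hcomm]; exact Subgroup.commutator_mem_commutator hx hy
  rw [Subgroup.mem_bot, commutatorElement_def, mul_inv_eq_one, mul_inv_eq_iff_eq_mul] at h1
  exact h1

theorem fam_of [Finite G] (hb : D3.Plug.Bal G) (h : Term0 G K) (hz : Subgroup.center K = ⊥)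
    (h2 : ∃ B ∈ Cj K, B ≠ K ∧ Rel K B) : Fam (Fm K) :=
  fam (kh_of hb h) (cent_of hz) h2

/-- **(SCD)**, `n = 2` -/
theorem scd [Finite G] {𝓒 : Set (Set (Subgroup G))} (F : Fam2 𝓒) (hbb : ∀ Q : Subgroup G, NF 𝓒 Q → False)
    {Λ Λ' : Set (Subgroup G)} (hΛ : Λ ∈ 𝓒) (hΛ' : Λ' ∈ 𝓒) {L : Subgroup G} (hL : L ∈ Λ) {e : G} (he : e ∈ L)
    (he2 : e * e = 1) (he1 : e ≠ 1) (heS : e ∈ St Λ') : Λ = Λ' := by
  by_contra hne
  obtain ⟨Q, hQ⟩ := exists_nf F hΛ hΛ' hne ⟨L, hL, e, he, he2, he1, heS⟩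
  exact hbb Q hQ

end Cfsg.Agent.OddHalf.D3b.OddCase

end

-- merged: Cfsg.Agent.OddHalf.D3.Bridge
section

/-!
# ODD D3(b): `Cls K`, `stab K` and `cls K K`, `St`; the odd case
-/

set_option autoImplicit false

namespace Cfsg.Agent.OddHalf.D3b.Bridge

open Cfsg Cfsg.Agent.OddHalf.Iface
open Cfsg.Agent.OddHalf.D3.ThreeDefs Cfsg.Agent.OddHalf.D3.ThreeFam Cfsg.Agent.OddHalf.D3.FamTerm
open Cfsg.Agent.OddHalf.D3.SCThree Cfsg.Agent.OddHalf.D3.Swap Cfsg.Agent.OddHalf.D3.TwoCfg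
open Cfsg.Agent.OddHalf.D3.TwoKey Cfsg.Agent.OddHalf.D3.TwoFull
open Cfsg.Agent.OddHalf.D3b.OddCase
open Cfsg.Agent.OddHalf.D3 (Cls stab Frame Sim)
open scoped commutatorElement

universe u

variable {G : Type u} [Group G] {K : Subgroup G}

theorem rel_iff_sim {A B : Subgroup G} : D3.FamTerm.Rel A B ↔ Sim A B := by
  constructor
  · rintro (h | h)
    · exact Or.inl h
    · exact Or.inr fun x hx => Subgroup.mem_centralizer_iff.mpr fun y hy => (h x hx y hy).symm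
  · rintro (h | h)
    · exact Or.inl h
    · exact Or.inr fun x hx y hy => (Subgroup.mem_centralizer_iff.mp (h hx) y hy).symm

theorem mem_Cls_iff {L : Subgroup G} : L ∈ Cls K ↔ L ∈ cls K K := by
  constructor
  · rintro ⟨⟨g, rfl⟩, hs⟩
    exact ⟨⟨g, rfl⟩, rel_iff_sim.mpr hs.symm⟩
  · rintro ⟨⟨g, rfl⟩, hr⟩
    exact ⟨⟨g, rfl⟩, (rel_iff_sim.mp hr).symm⟩

theorem cls_mem_Fm : cls K K ∈ Fm K := ⟨K, Cj_self K, rfl⟩

theorem mem_stab_iff [Finite G] (h : Frame K) (hK : KH K) {g : G} : g ∈ stab K h ↔ g ∈ St (cls K K) := by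
  rw [D3.mem_stab, mem_St, cjs_cls]
  change Sim (cj g K) K ↔ _
  constructor
  · intro hs
    exact cls_eq hK (Cj_conj (Cj_self K) g) (Cj_self K) (rel_iff_sim.mpr hs)
  · intro he
    have h1 : cj g K ∈ cls K (cj g K) := self_mem_cls (Cj_conj (Cj_self K) g)
    rw [he] at h1
    exact (rel_iff_sim.mp h1.2).symm

/-- `(SCU)` from the separation of classes -/
theorem scu_of [Finite G] (h : Frame K) (hK : KH K)
    (hsc : ∀ Λ ∈ Fm K, ∀ Λ' ∈ Fm K, ∀ u, InU Λ' u → u ∈ St Λ → Λ = Λ') : D3.EndCent.SCU h := by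
  intro L hL u hu ou g hg
  have hu' : InU (cls K K) u := by
    have h1 := orderOf_eq_iff (n := 2) (x := u) (by norm_num) |>.mp ou
    refine ⟨by rw [← pow_two]; exact h1.1, ?_, L, mem_Cls_iff.mp hL, fun a ha => ?_⟩
    · rintro rfl
      rw [orderOf_one] at ou
      omega
    · exact (Subgroup.mem_centralizer_iff.mp hu a ha).symm
  have h2 := hu'.conj g
  have h3 : cjs g (cls K K) ∈ Fm K := ⟨cj g K, Cj_conj (Cj_self K) g, cjs_cls g⟩
  rw [mem_stab_iff h hK] at hg ⊢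
  exact (hsc _ cls_mem_Fm _ h3 _ h2 hg).symm

/-- the hypothesis that (B2) is impossible -/
def BB (G : Type u) [Group G] : Prop := ∀ (𝓒 : Set (Set (Subgroup G))) (Q : Subgroup G), Fam2 𝓒 → NF 𝓒 Q → False

/-- **The odd case.** -/
theorem odd_false (C : Ctx G) (hSch : Cfsg.Agent.Schreier.Cases.SchFor.{u} @IsKnownSimple') (hFT : D3.FT G)
    (hBB : BB G) (h : Term0 G K) (hr : ¬ PRankLE 2 1 K) (hz : Subgroup.center K = ⊥)
    {g : G} (hne : cj g K ≠ K) (hcomm : ⁅K, cj g K⁆ = ⊥) : False := by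
  have hfin := C.fin
  have hsim := C.simple
  have hF := D3.Plug.frame_of_term C.bal h
  have hK := kh_of C.bal h
  have hodd : Odd (Nat.card (Subgroup.center K)) := by rw [hz, Subgroup.card_bot]; exact odd_one
  have hnt : ∃ L ∈ Cls K, L ≠ K := by
    obtain ⟨B, hB, hBK, hr⟩ := two_of hne hcomm
    exact ⟨B, mem_Cls_iff.mpr ⟨hB, hr⟩, hBK⟩
  have F := fam_of C.bal h hz (two_of hne hcomm)
  by_cases h3 : Three K
  · refine D3.End.false_of_sc (h := hF) hodd hr hnt (D3.End.sc_of_scu (scu_of hF hK ?_))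
    intro Λ hΛ Λ' hΛ' u hu huS
    exact sc3 (fun D hD => hFT.even hD) C.bal hK (cent_of hz) h3 hΛ hΛ' hu huS
  · have F2 := fam2_of C hSch h hz F h3
    obtain ⟨K', hK', hKK'⟩ := hnt
    have htwo : ∀ L ∈ Cls K, L = K ∨ L = K' := by
      intro L hL
      rcases le_two hK h3 cls_mem_Fm K (mem_Cls_iff.mp (D3.self_mem_Cls K)) K' (mem_Cls_iff.mp hK') L
        (mem_Cls_iff.mp hL) with h1 | h1 | h1
      · exact absurd h1.symm hKK'
      · exact Or.inl h1.symm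
      · exact Or.inr h1.symm
    refine D3.End.false_of_sc (h := hF) hodd hr ⟨K', hK', hKK'⟩ (D3.End.sc_of_scd (h := hF) (K' := K') htwo ?_)
    intro L hL u hu ou x hx
    rw [mem_stab_iff hF hK] at hx ⊢
    have h1 := orderOf_eq_iff (n := 2) (x := u) (by norm_num) |>.mp ou
    have hu2 : u * u = 1 := by rw [← pow_two]; exact h1.1
    have hu1 : u ≠ 1 := by
      rintro rfl
      rw [orderOf_one] at ou
      omega
    have hΛ : cjs x (cls K K) ∈ Fm K := ⟨cj x K, Cj_conj (Cj_self K) x, cjs_cls x⟩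
    refine scd F2 (fun Q hQ => hBB _ Q F2 hQ) hΛ cls_mem_Fm (cj_mem_cjs (mem_Cls_iff.mp hL)) (conj_mem_cj hu) ?_ ?_ hx
    · calc x * u * x⁻¹ * (x * u * x⁻¹) = x * (u * u) * x⁻¹ := by group
        _ = 1 := by rw [hu2]; group
    · intro h2
      apply hu1
      calc u = x⁻¹ * (x * u * x⁻¹) * x := by group
        _ = 1 := by rw [h2]; group

/-- The separation of classes if there is a central involution (D3(b), even centre). -/
def EvenSep (G : Type u) [Group G] : Prop :=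
  ∀ K : Subgroup G, Term0 G K → ¬ PRankLE 2 1 K → (∃ z ∈ K, z * z = 1 ∧ z ≠ 1 ∧ ∀ a ∈ K, z * a = a * z) →
    (∃ B ∈ Cj K, B ≠ K ∧ D3.FamTerm.Rel K B) → ∀ Λ ∈ Fm K, ∀ Λ' ∈ Fm K, ∀ u, InU Λ' u → u ∈ St Λ → Λ = Λ'

/-- **The even case**, from `EvenSep`. -/
theorem even_false (C : Ctx G) (h1173 : haveI := C.fin; D3.EndCent.P1173 G) (hE : EvenSep G) (h : Term0 G K) (hr : ¬ PRankLE 2 1 K)
    (hz : ∃ z ∈ K, z * z = 1 ∧ z ≠ 1 ∧ ∀ a ∈ K, z * a = a * z) {g : G} (hne : cj g K ≠ K)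
    (hcomm : ⁅K, cj g K⁆ = ⊥) : False := by
  have hfin := C.fin
  have hsim := C.simple
  have hF := D3.Plug.frame_of_term C.bal h
  have hK := kh_of C.bal h
  have hnt : ∃ L ∈ Cls K, L ≠ K := by
    obtain ⟨B, hB, hBK, hr⟩ := two_of hne hcomm
    exact ⟨B, mem_Cls_iff.mpr ⟨hB, hr⟩, hBK⟩
  refine D3.EndCent.false_of_scu (h := hF) h1173 hnt ?_ (scu_of hF hK (hE K h hr hz (two_of hne hcomm)))
  obtain ⟨z, hzK, hz2, hz1, hzc⟩ := hz
  refine ⟨z, orderOf_eq_prime (by rw [pow_two]; exact hz2) hz1, ?_⟩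
  intro L hL
  rw [Subgroup.mem_centralizer_iff]
  rcases hL.2 with h1 | h1
  · rw [h1]
    exact fun a ha => (hzc a ha).symm
  · intro a ha
    exact (Subgroup.mem_centralizer_iff.mp (h1 ha) z hzK).symm

end Cfsg.Agent.OddHalf.D3b.Bridge

end
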