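import Cfsg.Agent.OddHalf.D3.TwoCfg
import Cfsg.Agent.OddHalf.D3.TwoKey

-- merged: Cfsg.Agent.OddHalf.D3.TwoAct
section

/-!
# ODD D3 (iii), `n = 2`: the action lemma (text of helper133, bb ODD 9195, (6), and helper832, bb ODD 9609, (1))

A finite group `X` acts on a set `E` of "ends"; `σ` interchanges the two ends of a point; `J α` is a subgroup of the
stabiliser of `α`.
-/

set_option autoImplicit false

namespace Cfsg.Agent.OddHalf.D3.TwoAct

open Cfsg.Agent.OddHalf.D3.ThreeDefs Cfsg.Agent.OddHalf.D3.ThreeMain Cfsg.Agent.OddHalf.D3.TwoCfg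

universe u v

/-- The action. -/
structure Act (X : Type u) (E : Type v) [Group X] where
  ρ : X →* Equiv.Perm E
  σ : E → E
  σσ : ∀ α, σ (σ α) = α
  σne : ∀ α, σ α ≠ α
  σeq : ∀ x α, σ (ρ x α) = ρ x (σ α)
  J : E → Subgroup X
  Jfix : ∀ α, ∀ t ∈ J α, ρ t α = α
  Jconj : ∀ x α, ∀ y ∈ J α, x * y * x⁻¹ ∈ J (ρ x α)
  Jinv : ∀ α, ∃ t ∈ J α, t * t = 1 ∧ t ≠ 1
  Jcomm : ∀ α, ∀ a ∈ J α, ∀ b ∈ J (σ α), a * b = b * a
  Jtri : ∀ α, ∀ t ∈ J α, t ∈ J (σ α) → t * t = 1 → t = 1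
  A1 : ∀ α β, β ≠ α → β ≠ σ α → ∀ t, t * t = 1 → ρ t α = α → ρ t β = β → t = 1
  A6 : ∀ α β, ∀ a ∈ J α, ∀ b ∈ J (σ α), a * a = 1 → a ≠ 1 → b * b = 1 → b ≠ 1 → a * b ∉ J β

namespace Act

variable {X : Type u} {E : Type v} [Group X] (A : Act X E)

theorem ρmul (x y : X) (α : E) : A.ρ (x * y) α = A.ρ x (A.ρ y α) := by
  rw [map_mul]; rfl

theorem fix_σ {x : X} {α : E} (h : A.ρ x α = α) : A.ρ x (A.σ α) = A.σ α := by
  rw [← A.σeq, h]

theorem fix_of_σ {x : X} {α : E} (h : A.ρ x (A.σ α) = A.σ α) : A.ρ x α = α := by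
  have := A.fix_σ h
  rwa [A.σσ] at this

theorem fib_symm {α β : E} (h1 : β ≠ α) (h2 : β ≠ A.σ α) : α ≠ β ∧ α ≠ A.σ β := by
  refine ⟨h1.symm, fun h => h2 ?_⟩
  rw [h, A.σσ]

theorem fib_σ {α β : E} (h1 : β ≠ α) (h2 : β ≠ A.σ α) : A.σ β ≠ α ∧ A.σ β ≠ A.σ α := by
  refine ⟨fun h => h2 ?_, fun h => h1 ?_⟩
  · rw [← h, A.σσ]
  · have := congrArg A.σ h
    rwa [A.σσ, A.σσ] at this

/-- (D1) -/
theorem cen {t g : X} {α : E} (ht2 : t * t = 1) (ht1 : t ≠ 1) (hα : A.ρ t α = α) (hg : t * g = g * t) :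
    A.ρ g α = α ∨ A.ρ g α = A.σ α := by
  by_contra hcon
  push Not at hcon
  refine ht1 (A.A1 α (A.ρ g α) hcon.1 hcon.2 t ht2 hα ?_)
  rw [← A.ρmul, hg, A.ρmul, hα]

/-- (D2) -/
theorem cenJ {t g : X} {α : E} (ht : t ∈ A.J α) (ht2 : t * t = 1) (ht1 : t ≠ 1) (hg : t * g = g * t) :
    A.ρ g α = α := by
  rcases A.cen ht2 ht1 (A.Jfix α t ht) hg with h | h
  · exact h
  · exfalso
    refine ht1 (A.Jtri α t ht ?_ ht2)
    have h1 := A.Jconj g α t ht
    have h2 : g * t * g⁻¹ = t := by rw [← hg]; group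
    rwa [h, h2] at h1

/-- (D2') -/
theorem moves {t : X} {α β : E} (ht : t ∈ A.J α) (ht2 : t * t = 1) (ht1 : t ≠ 1) (h1 : β ≠ α) (h2 : β ≠ A.σ α) :
    A.ρ t β ≠ β ∧ A.ρ t β ≠ A.σ β := by
  refine ⟨fun h => ht1 (A.A1 α β h1 h2 t ht2 (A.Jfix α t ht) h), fun h => ?_⟩
  obtain ⟨j, hj, hj2, hj1⟩ := A.Jinv β
  have hk := A.Jconj t β j hj
  rw [h] at hk
  set k := t * j * t⁻¹ with hkdef
  have hinv : t⁻¹ = t := inv_of_sq ht2
  have hjk := A.Jcomm β j hj k hk
  have hk2 : k * k = 1 := by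
    calc k * k = t * (j * j) * t⁻¹ := by rw [hkdef]; group
      _ = 1 := by rw [hj2]; group
  have hsq : (j * k) * (j * k) = 1 := by
    calc (j * k) * (j * k) = j * (k * j) * k := by group
      _ = j * (j * k) * k := by rw [hjk]
      _ = (j * j) * (k * k) := by group
      _ = 1 := by rw [hj2, hk2, one_mul]
  have hne : j * k ≠ 1 := by
    intro h3
    apply hj1
    refine A.Jtri β j hj ?_ hj2
    rw [eq_inv_of_mul_eq_one_left h3]
    exact inv_mem hk
  have hc : t * (j * k) = (j * k) * t := by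
    have h3 : t * k = j * t := by
      calc t * k = (t * t) * j * t⁻¹ := by rw [hkdef]; group
        _ = j * t := by rw [ht2, hinv, one_mul]
    calc t * (j * k) = (t * j * t⁻¹) * (t * k) := by group
      _ = k * (j * t) := by rw [h3]
      _ = (k * j) * t := by group
      _ = (j * k) * t := by rw [hjk]
  have h4 := A.cenJ ht ht2 ht1 hc
  refine hne (A.A1 α β h1 h2 (j * k) hsq h4 ?_)
  have h5 : A.ρ k β = β := A.fix_of_σ (A.Jfix _ k hk)
  rw [A.ρmul, h5, A.Jfix β j hj]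

theorem dih_pow {t t' : X} (ht2 : t * t = 1) (ht2' : t' * t' = 1) (k : ℕ) :
    t * (t * t') ^ k * t = ((t * t') ^ k)⁻¹ := by
  have hinv : t⁻¹ = t := inv_of_sq ht2
  have hinv' : t'⁻¹ = t' := inv_of_sq ht2'
  have h1 : t * (t * t') * t⁻¹ = (t * t')⁻¹ := by
    rw [mul_inv_rev, hinv', hinv]
    calc t * (t * t') * t = (t * t) * t' * t := by group
      _ = t' * t := by rw [ht2, one_mul]
  have h2 : (t * (t * t') * t⁻¹) ^ k = t * (t * t') ^ k * t⁻¹ := conj_pow
  calc t * (t * t') ^ k * t = t * (t * t') ^ k * t⁻¹ := by rw [hinv]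
    _ = ((t * t')⁻¹) ^ k := by rw [← h2, h1]
    _ = ((t * t') ^ k)⁻¹ := inv_pow _ _

/-- `c^k t c^{-k} = c^{2k} t`, `c = t t'` -/
theorem dih_pow' {t t' : X} (ht2 : t * t = 1) (ht2' : t' * t' = 1) (k : ℕ) :
    (t * t') ^ k * t * ((t * t') ^ k)⁻¹ = (t * t') ^ (2 * k) * t := by
  rw [← dih_pow ht2 ht2' k, two_mul, pow_add]
  calc (t * t') ^ k * t * (t * (t * t') ^ k * t) = (t * t') ^ k * (t * t) * (t * t') ^ k * t := by group
    _ = _ := by rw [ht2, mul_one]

/-- an odd product: conjugate -/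
theorem conj_of_odd {t t' : X} (ht2 : t * t = 1) (ht2' : t' * t' = 1) {m : ℕ} (h : (t * t') ^ (2 * m + 1) = 1) :
    (t * t') ^ m * t * ((t * t') ^ m)⁻¹ = t' := by
  have hinv : t⁻¹ = t := inv_of_sq ht2
  have hinv' : t'⁻¹ = t' := inv_of_sq ht2'
  rw [dih_pow' ht2 ht2']
  have h1 : (t * t') ^ (2 * m) = (t * t')⁻¹ := by
    rw [pow_succ] at h
    exact eq_inv_of_mul_eq_one_left h
  rw [h1, mul_inv_rev, hinv', hinv]
  calc t' * t * t = t' * (t * t) := by group
    _ = t' := by rw [ht2, mul_one]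

section
variable [Finite X]

/-- the central involution of the dihedral group `⟨t, t'⟩` -/
theorem exists_mid {t t' : X} (ht2 : t * t = 1) (ht2' : t' * t' = 1) (h : ∀ m : ℕ, (t * t') ^ (2 * m + 1) ≠ 1) :
    ∃ z : X, z * z = 1 ∧ z ≠ 1 ∧ t * z = z * t ∧ t' * z = z * t' ∧ ∃ m, z = (t * t') ^ m ∧
      orderOf (t * t') = 2 * m := by
  have hpos : 0 < orderOf (t * t') := orderOf_pos _
  rcases Nat.even_or_odd' (orderOf (t * t')) with ⟨m, hm | hm⟩
  · have hz2 : (t * t') ^ m * (t * t') ^ m = 1 := by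
      rw [← pow_add, ← two_mul, ← hm]; exact pow_orderOf_eq_one _
    have hz1 : (t * t') ^ m ≠ 1 := by
      intro h1
      have h2 := orderOf_dvd_of_pow_eq_one h1
      have h3 := Nat.le_of_dvd (by omega) h2
      omega
    have hc : t * (t * t') ^ m = (t * t') ^ m * t := by
      have h1 := dih_pow ht2 ht2' m
      rw [inv_of_sq hz2] at h1
      calc t * (t * t') ^ m = (t * (t * t') ^ m * t) * t * (t * t)⁻¹ := by group
        _ = _ := by rw [h1, ht2, inv_one, mul_one]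
    refine ⟨(t * t') ^ m, hz2, hz1, hc, ?_, m, rfl, hm⟩
    have h1 : t' = t * (t * t') := by
      calc t' = (t * t) * t' := by rw [ht2, one_mul]
        _ = _ := by group
    have h2 : (t * t') * (t * t') ^ m = (t * t') ^ m * (t * t') := by rw [← pow_succ', ← pow_succ]
    calc t' * (t * t') ^ m = t * (t * t') * (t * t') ^ m := by rw [← h1]
      _ = t * ((t * t') * (t * t') ^ m) := mul_assoc _ _ _
      _ = t * (t * t') ^ m * (t * t') := by rw [h2]; group
      _ = (t * t') ^ m * (t * (t * t')) := by rw [hc]; group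
      _ = (t * t') ^ m * t' := by rw [← h1]
  · exact absurd (by rw [← hm]; exact pow_orderOf_eq_one _) (h m)

/-- (D3) -/
theorem exists_y {α β : E} (h1 : β ≠ α) (h2 : β ≠ A.σ α) {t t' : X} (ht : t ∈ A.J α) (ht2 : t * t = 1) (ht1 : t ≠ 1)
    (ht' : t' ∈ A.J β) (ht2' : t' * t' = 1) (ht1' : t' ≠ 1) :
    ∃ y γ, y ∈ A.J γ ∧ y * y = 1 ∧ y ≠ 1 ∧ y * t * y⁻¹ = t' ∧ A.ρ y α = β := by
  have hex : ∃ m : ℕ, (t * t') ^ (2 * m + 1) = 1 := by
    by_contra hcon
    push Not at hcon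
    obtain ⟨z, hz2, hz1, hc, hc', -⟩ := exists_mid ht2 ht2' hcon
    exact hz1 (A.A1 α β h1 h2 z hz2 (A.cenJ ht ht2 ht1 hc) (A.cenJ ht' ht2' ht1' hc'))
  obtain ⟨m, hm⟩ := hex
  have hinv : t⁻¹ = t := inv_of_sq ht2
  set c := t * t' with hc
  -- `y = c^m t = c^j t c^-j`, `j = m (m + 1)`
  have hy : c ^ (m * (m + 1)) * t * (c ^ (m * (m + 1)))⁻¹ = c ^ m * t := by
    rw [hc, dih_pow' ht2 ht2', ← hc]
    congr 1
    have e : 2 * (m * (m + 1)) = (2 * m + 1) * m + m := by ring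
    rw [e, pow_add, pow_mul, hm, one_pow, one_mul]
  set y := c ^ m * t with hydef
  have hyJ := A.Jconj (c ^ (m * (m + 1))) α t ht
  rw [hy] at hyJ
  have hy2 : y * y = 1 := by
    rw [← hy]
    calc c ^ (m * (m + 1)) * t * (c ^ (m * (m + 1)))⁻¹ * (c ^ (m * (m + 1)) * t * (c ^ (m * (m + 1)))⁻¹)
        = c ^ (m * (m + 1)) * (t * t) * (c ^ (m * (m + 1)))⁻¹ := by group
      _ = 1 := by rw [ht2]; group
  have hy1 : y ≠ 1 := by
    rw [← hy]
    intro h
    apply ht1
    calc t = (c ^ (m * (m + 1)))⁻¹ * (c ^ (m * (m + 1)) * t * (c ^ (m * (m + 1)))⁻¹) * c ^ (m * (m + 1)) := by group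
      _ = 1 := by rw [h]; group
  have hyt : y * t * y⁻¹ = t' := by
    have h3 := conj_of_odd ht2 ht2' hm
    rw [← hc] at h3
    calc y * t * y⁻¹ = c ^ m * (t * t * t⁻¹) * (c ^ m)⁻¹ := by rw [hydef]; group
      _ = c ^ m * t * (c ^ m)⁻¹ := by rw [ht2, hinv, one_mul]
      _ = t' := h3
  refine ⟨y, _, hyJ, hy2, hy1, hyt, ?_⟩
  have h3 := A.Jconj y α t ht
  rw [hyt] at h3
  by_contra hne
  by_cases hne2 : A.ρ y α = A.σ β
  · rw [hne2] at h3
    exact ht1' (A.Jtri β t' ht' h3 ht2')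
  · have h4 : β ≠ A.ρ y α := fun h => hne h.symm
    have h5 : β ≠ A.σ (A.ρ y α) := fun h => hne2 (by rw [h, A.σσ])
    exact (A.moves h3 ht2' ht1' h4 h5).1 (A.Jfix β t' ht')

/-- (D4) -/
theorem exists_f {α β : E} (h1 : β ≠ α) (h2 : β ≠ A.σ α) :
    ∃ f γ, f * f = 1 ∧ f ≠ 1 ∧ A.ρ f α = A.σ α ∧ A.ρ f γ = γ ∧ γ ≠ α ∧ γ ≠ A.σ α := by
  obtain ⟨t, ht, ht2, ht1⟩ := A.Jinv α
  obtain ⟨t', ht', ht2', ht1'⟩ := A.Jinv β
  obtain ⟨t'', ht'', ht2'', ht1''⟩ := A.Jinv (A.σ β)
  obtain ⟨y, γ, hyJ, hy2, hy1, -, hyα⟩ := A.exists_y h1 h2 ht ht2 ht1 ht' ht2' ht1'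
  obtain ⟨y1, γ1, hyJ1, hy21, hy11, -, hyα1⟩ := A.exists_y (A.fib_σ h1 h2).1 (A.fib_σ h1 h2).2 ht ht2 ht1 ht'' ht2'' ht1''
  -- `e = y1 y`
  have hyy : ∀ x : X, x * x = 1 → ∀ δ, A.ρ x (A.ρ x δ) = δ := by
    intro x hx δ
    rw [← A.ρmul, hx, map_one]; rfl
  have hyβ : A.ρ y β = α := by rw [← hyα, hyy y hy2]
  have heβ : A.ρ (y1 * y) β = A.σ β := by rw [A.ρmul, hyβ, hyα1]
  have heα : A.ρ (y1 * y) α = A.σ α := by
    rw [A.ρmul, hyα]
    have h3 : A.ρ y1 (A.σ β) = α := by rw [← hyα1, hyy y1 hy21]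
    rw [← A.σeq] at h3
    rw [← h3, A.σσ]
  have hodd : ∀ m : ℕ, ∀ δ, A.ρ (y1 * y) δ = A.σ δ → A.ρ ((y1 * y) ^ m) δ = δ ∨ A.ρ ((y1 * y) ^ m) δ = A.σ δ := by
    intro m δ hδ
    induction m with
    | zero => left; rw [pow_zero, map_one]; rfl
    | succ m ih =>
      rw [pow_succ', A.ρmul]
      rcases ih with h | h
      · right; rw [h, hδ]
      · left; rw [h, ← A.σeq, hδ, A.σσ]
  have hpar : ∀ m : ℕ, ∀ δ, A.ρ (y1 * y) δ = A.σ δ → A.ρ ((y1 * y) ^ (2 * m)) δ = δ := by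
    intro m δ hδ
    induction m with
    | zero => rw [mul_zero, pow_zero, map_one]; rfl
    | succ m ih =>
      rw [mul_add, mul_one, pow_add, A.ρmul, pow_two, A.ρmul, hδ, ← A.σeq, hδ, A.σσ, ih]
  have hpar' : ∀ m : ℕ, ∀ δ, A.ρ (y1 * y) δ = A.σ δ → A.ρ ((y1 * y) ^ (2 * m + 1)) δ = A.σ δ := by
    intro m δ hδ
    rw [pow_succ', A.ρmul, hpar m δ hδ, hδ]
  obtain ⟨f, hf2, hf1, hfc, hfc', m, hfm, hord⟩ := exists_mid hy21 hy2 (by
    intro m h
    have h3 := hpar' m α heα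
    rw [h, map_one] at h3
    exact A.σne α h3.symm)
  have hγf := A.cenJ hyJ hy2 hy1 hfc'
  rcases Nat.even_or_odd' m with ⟨k, hk | hk⟩
  · exfalso
    refine hf1 (A.A1 α β h1 h2 f hf2 ?_ ?_)
    · rw [hfm, hk]; exact hpar k α heα
    · rw [hfm, hk]; exact hpar k β heβ
  · have hfα : A.ρ f α = A.σ α := by rw [hfm, hk]; exact hpar' k α heα
    refine ⟨f, γ, hf2, hf1, hfα, hγf, ?_, ?_⟩
    · rintro rfl
      exact A.σne γ (hfα.symm.trans hγf)
    · rintro rfl
      rw [← A.σeq, hfα, A.σσ] at hγf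
      exact A.σne α hγf.symm

/-- the stabiliser of an end -/
def stb (α : E) : Subgroup X where
  carrier := {x | A.ρ x α = α}
  one_mem' := by change A.ρ 1 α = α; rw [map_one]; rfl
  mul_mem' := by
    intro x y hx hy
    change A.ρ (x * y) α = α
    rw [A.ρmul, hy, hx]
  inv_mem' := by
    intro x hx
    change A.ρ x⁻¹ α = α
    conv_lhs => rw [← (hx : A.ρ x α = α)]
    rw [← A.ρmul, inv_mul_cancel, map_one]; rfl

theorem mem_stb {α : E} {x : X} : x ∈ A.stb α ↔ A.ρ x α = α := Iff.rfl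

theorem J_le_stb (α : E) : A.J α ≤ A.stb α := fun t ht => A.Jfix α t ht

theorem stb_σ (α : E) : A.stb (A.σ α) = A.stb α := by
  ext x
  exact ⟨fun h => A.fix_of_σ h, fun h => A.fix_σ h⟩

theorem cj_J {x : X} {α : E} (hx : x ∈ A.stb α) : cj x (A.J α) = A.J α := by
  ext y
  rw [mem_cj]
  constructor
  · intro h
    have h1 := A.Jconj x α _ h
    have e : x * (x⁻¹ * y * x) * x⁻¹ = y := by group
    rw [e, A.mem_stb.mp hx] at h1
    exact h1
  · intro h
    have h1 := A.Jconj x⁻¹ α _ h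
    rw [A.mem_stb.mp (inv_mem hx), inv_inv] at h1
    exact h1

/-- (D5): 2-subgroups of the stabiliser of an end have order at most 4 -/
theorem card_le_four {α β : E} (h1 : β ≠ α) (h2 : β ≠ A.σ α) {R : Subgroup X} (hR : IsPGroup 2 R) (hRs : R ≤ A.stb α) :
    Nat.card R ≤ 4 := by
  obtain ⟨f, γ, hf2, hf1, hfα, hfγ, hγα, hγσ⟩ := A.exists_f h1 h2
  have hfinv : f⁻¹ = f := inv_of_sq hf2
  -- `f` normalises the stabiliser
  have hfX : ∀ w ∈ Subgroup.zpowers f, cj w (A.stb α) = A.stb α := by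
    have : Subgroup.zpowers f ≤ Nm ({A.stb α} : Set (Subgroup X)) := by
      rw [Subgroup.zpowers_le]
      intro Y hY
      rw [Set.mem_singleton_iff] at hY
      rw [hY]
      ext x
      rw [mem_cj, hfinv, A.mem_stb, A.mem_stb, A.ρmul, A.ρmul, hfα]
      constructor
      · intro h
        have h3 : A.ρ f (A.ρ f (A.ρ x (A.σ α))) = A.ρ f α := by rw [h]
        rw [← A.ρmul f f, hf2, map_one, hfα] at h3
        exact A.fix_of_σ h3
      · intro h
        rw [A.fix_σ h, ← A.σeq, hfα, A.σσ]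
    exact fun w hw => this hw _ rfl
  have hfz : ∀ w ∈ Subgroup.zpowers f, w * w = 1 := by
    intro w hw
    obtain ⟨k, rfl⟩ := Subgroup.mem_zpowers_iff.mp hw
    have h2 : f ^ (2 : ℤ) = 1 := by rw [zpow_ofNat, pow_two]; exact hf2
    rw [← zpow_add, ← two_mul, zpow_mul, h2, one_zpow]
  obtain ⟨S, hSX, hS, hSf, hSc⟩ := exists_inv_syl (isPGroup_of_sq hfz) hfX
  have hSyl : IsSyl S (A.stb α) := ⟨hSX, hS, hSc⟩
  have hfS : cj f S = S := hSf f (Subgroup.mem_zpowers f)
  -- 2-elements of `S` commuting with `f`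
  have huniq : ∀ g ∈ S, g ≠ 1 → f * g = g * f → ∀ h ∈ S, h ≠ 1 → f * h = h * f → g = h := by
    have hz : ∀ g ∈ S, g ≠ 1 → f * g = g * f → A.ρ g γ = A.σ γ := by
      intro g hg hg1 hgf
      rcases A.cen hf2 hf1 hfγ hgf with h | h
      · exfalso
        obtain ⟨n, hn2, hn1⟩ := exists_pow_inv hS hg hg1
        have hst : g ∈ A.stb γ := h
        exact hn1 (A.A1 α γ hγα hγσ (g ^ n) hn2 (pow_mem (hSX hg) n) (pow_mem hst n))
      · exact h
    intro g hg hg1 hgf h hh hh1 hhf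
    have e1 := hz g hg hg1 hgf
    have e2 := hz h hh hh1 hhf
    by_contra hne
    have hgh : g⁻¹ * h ≠ 1 := fun h3 => hne (inv_mul_eq_one.mp h3)
    have e3 : A.ρ (g⁻¹ * h) γ = γ := by
      rw [A.ρmul, e2, ← e1, ← A.ρmul, inv_mul_cancel, map_one]; rfl
    obtain ⟨n, hn2, hn1⟩ := exists_pow_inv hS (mul_mem (inv_mem hg) hh) hgh
    have hst : g⁻¹ * h ∈ A.stb γ := e3
    exact hn1 (A.A1 α γ hγα hγσ _ hn2 (pow_mem (hSX (mul_mem (inv_mem hg) hh)) n) (pow_mem hst n))
  -- the involution `a`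
  obtain ⟨a0, ha0, ha02, ha01⟩ := A.Jinv α
  obtain ⟨a, ha, haS, ha2, ha1⟩ := hSyl.exists_inv (A.J_le_stb α) (fun x hx => A.cj_J hx) ha0 ha02 ha01
  have hJf : ∀ j ∈ A.J α, f * j * f⁻¹ ∈ A.J (A.σ α) := by
    intro j hj
    have := A.Jconj f α j hj
    rwa [hfα] at this
  have hSf' : ∀ j ∈ S, f * j * f⁻¹ ∈ S := fun j hj => conj_mem_of_cj hfS hj
  have htri : ∀ x ∈ S, x ∈ A.J α → x ∈ A.J (A.σ α) → x = 1 := by
    intro x hx h3 h4
    by_contra hx1
    obtain ⟨n, hn2, hn1⟩ := exists_pow_inv hS hx hx1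
    exact hn1 (A.Jtri α _ (pow_mem h3 n) (pow_mem h4 n) hn2)
  -- `S ∩ J = {1, a}`
  have hdiag : ∀ j ∈ S, j ∈ A.J α → f * (j * (f * j * f⁻¹)) = (j * (f * j * f⁻¹)) * f := by
    intro j hj hjJ
    have h3 := A.Jcomm α j hjJ _ (hJf j hjJ)
    calc f * (j * (f * j * f⁻¹)) = (f * j * f⁻¹) * ((f * f) * j * f⁻¹) := by group
      _ = (f * j * f⁻¹) * (j * f) := by rw [hf2, one_mul, hfinv]
      _ = ((f * j * f⁻¹) * j) * f := by group
      _ = (j * (f * j * f⁻¹)) * f := by rw [h3]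
  have hdne : ∀ j ∈ S, j ∈ A.J α → j ≠ 1 → j * (f * j * f⁻¹) ≠ 1 := by
    intro j hj hjJ hj1 h3
    refine hj1 (htri j hj hjJ ?_)
    rw [eq_inv_of_mul_eq_one_left h3]
    exact inv_mem (hJf j hjJ)
  have hSJ : ∀ j ∈ S, j ∈ A.J α → j ≠ 1 → j = a := by
    intro j hj hjJ hj1
    have h3 := huniq _ (mul_mem hj (hSf' j hj)) (hdne j hj hjJ hj1) (hdiag j hj hjJ) _ (mul_mem haS (hSf' a haS))
      (hdne a haS ha ha1) (hdiag a haS ha)
    have h4 : a⁻¹ * j = (f * a * f⁻¹) * (f * j * f⁻¹)⁻¹ := by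
      calc a⁻¹ * j = a⁻¹ * (j * (f * j * f⁻¹)) * (f * j * f⁻¹)⁻¹ := by group
        _ = a⁻¹ * (a * (f * a * f⁻¹)) * (f * j * f⁻¹)⁻¹ := by rw [h3]
        _ = _ := by group
    have h5 := htri (a⁻¹ * j) (mul_mem (inv_mem haS) hj) (mul_mem (inv_mem ha) hjJ)
      (by rw [h4]; exact mul_mem (hJf a ha) (inv_mem (hJf j hjJ)))
    exact (inv_mul_eq_one.mp h5).symm
  set b := f * a * f⁻¹ with hb
  have hbS : b ∈ S := hSf' a haS
  have hbJ : b ∈ A.J (A.σ α) := hJf a ha
  have hb2 : b * b = 1 := by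
    calc b * b = f * (a * a) * f⁻¹ := by rw [hb]; group
      _ = 1 := by rw [ha2]; group
  have hb1 : b ≠ 1 := by
    intro h3
    apply ha1
    calc a = f⁻¹ * b * f := by rw [hb]; group
      _ = 1 := by rw [h3]; group
  have hfb : f * b * f⁻¹ = a := by
    calc f * b * f⁻¹ = (f * f) * a * (f * f)⁻¹ := by rw [hb]; group
      _ = a := by rw [hf2]; group
  -- `a` is central in `S`
  have hac : ∀ s ∈ S, s * a = a * s := by
    intro s hs
    have h3 := A.Jconj s α a ha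
    rw [A.mem_stb.mp (hSX hs)] at h3
    have h4 := hSJ _ (mul_mem (mul_mem hs haS) (inv_mem hs)) h3 (by
      intro h5
      apply ha1
      calc a = s⁻¹ * (s * a * s⁻¹) * s := by group
        _ = 1 := by rw [h5]; group)
    calc s * a = s * a * s⁻¹ * s := by group
      _ = a * s := by rw [h4]
  have hbc : ∀ s ∈ S, s * b = b * s := by
    intro s hs
    have h3 : f⁻¹ * s * f ∈ S := by
      have := conj_mem_of_cj (cj_inv_eq hfS) hs
      rwa [inv_inv] at this
    have h4 := hac _ h3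
    calc s * b = f * ((f⁻¹ * s * f) * a) * f⁻¹ := by rw [hb]; group
      _ = f * (a * (f⁻¹ * s * f)) * f⁻¹ := by rw [h4]
      _ = b * s := by rw [hb]; group
  have hab := A.Jcomm α a ha b hbJ
  -- the four-group
  let V : Subgroup X :=
    { carrier := {x | x = 1 ∨ x = a ∨ x = b ∨ x = a * b}
      one_mem' := Or.inl rfl
      mul_mem' := by
        rintro x y (rfl | rfl | rfl | rfl) (rfl | rfl | rfl | rfl)
        · left; rw [one_mul]
        · right; left; rw [one_mul]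
        · right; right; left; rw [one_mul]
        · right; right; right; rw [one_mul]
        · right; left; rw [mul_one]
        · left; exact ha2
        · right; right; right; rfl
        · right; right; left; rw [← mul_assoc, ha2, one_mul]
        · right; right; left; rw [mul_one]
        · right; right; right; rw [hab]
        · left; exact hb2
        · right; left; rw [hab, ← mul_assoc, hb2, one_mul]
        · right; right; right; rw [mul_one]
        · right; right; left; rw [hab, mul_assoc, ha2, mul_one]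
        · right; left; rw [mul_assoc, hb2, mul_one]
        · left
          calc a * b * (a * b) = a * (b * a) * b := by group
            _ = a * (a * b) * b := by rw [hab]
            _ = (a * a) * (b * b) := by group
            _ = 1 := by rw [ha2, hb2, one_mul]
      inv_mem' := by
        rintro x (rfl | rfl | rfl | rfl)
        · left; rw [inv_one]
        · right; left; exact inv_of_sq ha2
        · right; right; left; exact inv_of_sq hb2
        · right; right; right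
          rw [mul_inv_rev, inv_of_sq ha2, inv_of_sq hb2, hab] }
  have hVmem : ∀ x, x ∈ V ↔ x = 1 ∨ x = a ∨ x = b ∨ x = a * b := fun x => Iff.rfl
  have hVcard : Nat.card V ≤ 4 := by
    have h3 : (V : Set X) ⊆ (({1, a, b, a * b} : Set X)) := by
      intro x hx
      exact hx
    have h4 : Nat.card V ≤ Set.ncard ({1, a, b, a * b} : Set X) := by
      rw [← Nat.card_coe_set_eq]
      exact Set.ncard_le_ncard h3 (Set.toFinite _)
    refine h4.trans ?_
    calc Set.ncard ({1, a, b, a * b} : Set X) ≤ Set.ncard ({a, b, a * b} : Set X) + 1 := Set.ncard_insert_le _ _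
      _ ≤ Set.ncard ({b, a * b} : Set X) + 1 + 1 := by have := Set.ncard_insert_le a ({b, a * b} : Set X); omega
      _ ≤ Set.ncard ({a * b} : Set X) + 1 + 1 + 1 := by have := Set.ncard_insert_le b ({a * b} : Set X); omega
      _ = 4 := by rw [Set.ncard_singleton]
  have hVS : V ≤ S := by
    intro x hx
    rcases (hVmem x).mp hx with rfl | rfl | rfl | rfl
    · exact one_mem _
    · exact haS
    · exact hbS
    · exact mul_mem haS hbS
  have hfV : cj f V = V := by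
    ext x
    rw [mem_cj, hfinv, hVmem, hVmem]
    have hfa : f * a = b * f := by rw [hb]; group
    have hfb' : f * b = a * f := by rw [← hfb]; group
    have e : x = f * (f * x * f) * f := by
      calc x = (f * f) * x * (f * f) := by rw [hf2, one_mul, mul_one]
        _ = _ := by group
    constructor
    · rintro (h | h | h | h)
      · left; rw [e, h, mul_one, hf2]
      · right; right; left
        rw [e, h, hfa]
        calc b * f * f = b * (f * f) := by group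
          _ = b := by rw [hf2, mul_one]
      · right; left
        rw [e, h, hfb']
        calc a * f * f = a * (f * f) := by group
          _ = a := by rw [hf2, mul_one]
      · right; right; right
        rw [e, h]
        calc f * (a * b) * f = (f * a) * b * f := by group
          _ = b * (f * b) * f := by rw [hfa]; group
          _ = b * a * (f * f) := by rw [hfb']; group
          _ = a * b := by rw [hf2, mul_one, hab]
    · rintro (rfl | rfl | rfl | rfl)
      · left; rw [mul_one, hf2]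
      · right; right; left
        rw [hfa]
        calc b * f * f = b * (f * f) := by group
          _ = b := by rw [hf2, mul_one]
      · right; left
        rw [hfb']
        calc a * f * f = a * (f * f) := by group
          _ = a := by rw [hf2, mul_one]
      · right; right; right
        calc f * (a * b) * f = (f * a) * b * f := by group
          _ = b * (f * b) * f := by rw [hfa]; group
          _ = b * a * (f * f) := by rw [hfb']; group
          _ = a * b := by rw [hf2, mul_one, hab]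
  -- `S = V`
  have hSV : S ≤ V := by
    have hVf : ∀ w ∈ Subgroup.zpowers f, cj w V = V := by
      have : Subgroup.zpowers f ≤ Nm ({V} : Set (Subgroup X)) := by
        rw [Subgroup.zpowers_le]
        intro Y hY
        rw [Set.mem_singleton_iff] at hY
        rw [hY]; exact hfV
      exact fun w hw => this hw _ rfl
    have hT := isPGroup_mulSub (h := hSf) hS (isPGroup_of_sq hfz)
    have hDT : mulSub V (Subgroup.zpowers f) hVf ≤ mulSub S (Subgroup.zpowers f) hSf :=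
      mulSub_le (hVS.trans le_mulSub_left) le_mulSub_right
    have hfS' : f ∉ S := by
      intro h
      exact A.σne α (hfα.symm.trans (hSX h))
    have hfz' : ∀ w ∈ Subgroup.zpowers f, w = 1 ∨ w = f := by
      intro w hw
      obtain ⟨k, rfl⟩ := Subgroup.mem_zpowers_iff.mp hw
      have h2 : f ^ (2 : ℤ) = 1 := by rw [zpow_ofNat, pow_two]; exact hf2
      rcases Int.even_or_odd' k with ⟨m, rfl | rfl⟩
      · left; rw [zpow_mul, h2, one_zpow]
      · right; rw [zpow_add, zpow_mul, h2, one_zpow, one_mul, zpow_one]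
    by_contra hnot
    -- `V⟨f⟩ < S⟨f⟩`
    obtain ⟨x0, ⟨s, hs, w, hw, rfl⟩, hx0, hx0c⟩ := exists_norm hT hDT (by
      intro hle
      apply hnot
      intro s hs
      obtain ⟨v, hv, w, hw, hsvw⟩ := hle (le_mulSub_left hs)
      rcases hfz' w hw with rfl | rfl
      · rw [hsvw, mul_one]; exact hv
      · exfalso
        apply hfS'
        have : w = v⁻¹ * s := by rw [hsvw]; group
        rw [this]
        exact mul_mem (inv_mem (hVS hv)) hs)
    have hsV : s ∉ V := fun h => hx0 ⟨s, h, w, hw, rfl⟩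
    have hsc : cj s (mulSub V (Subgroup.zpowers f) hVf) = mulSub V (Subgroup.zpowers f) hVf := by
      have h3 : s = s * w * w⁻¹ := by group
      rw [h3]
      exact cj_mul_eq hx0c (cj_eq_of_mem (inv_mem (le_mulSub_right hw)))
    obtain ⟨v, hv, w', hw', hsf⟩ := conj_mem_of_cj hsc (le_mulSub_right (h := hVf) (Subgroup.mem_zpowers f))
    -- `s f s⁻¹ = v f`
    have hsf' : s * f * s⁻¹ = v * f := by
      rcases hfz' w' hw' with rfl | rfl
      · exfalso
        apply hfS'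
        rw [mul_one] at hsf
        have : f = s⁻¹ * v * s := by rw [← hsf]; group
        rw [this]
        exact mul_mem (mul_mem (inv_mem hs) (hVS hv)) hs
      · exact hsf
    have hvf : v * f * (v * f) = 1 := by
      rw [← hsf']
      calc s * f * s⁻¹ * (s * f * s⁻¹) = s * (f * f) * s⁻¹ := by group
        _ = 1 := by rw [hf2]; group
    have hfa : f * a = b * f := by rw [hb]; group
    have hfb' : f * b = a * f := by rw [← hfb]; group
    -- an element of `S - V` commuting with `f`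
    have hex : ∃ s' ∈ S, s' ∉ V ∧ f * s' = s' * f := by
      rcases (hVmem v).mp hv with rfl | rfl | rfl | rfl
      · refine ⟨s, hs, hsV, ?_⟩
        rw [one_mul] at hsf'
        calc f * s = (s * f * s⁻¹) * s := by rw [hsf']
          _ = s * f := by group
      · exfalso
        apply ha1
        have h3 : v * b = 1 := by
          calc v * b = v * (b * f) * f⁻¹ := by group
            _ = v * (f * v) * f⁻¹ := by rw [← hfa]
            _ = (v * f * (v * f)) * f⁻¹ * f⁻¹ := by group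
            _ = 1 := by rw [hvf, hfinv, one_mul, hf2]
        exact htri v haS ha (by rw [eq_inv_of_mul_eq_one_left h3]; exact inv_mem hbJ)
      · exfalso
        apply ha1
        have h3 : b * a = 1 := by
          calc b * a = b * (a * f) * f⁻¹ := by group
            _ = b * (f * b) * f⁻¹ := by rw [← hfb']
            _ = (b * f * (b * f)) * f⁻¹ * f⁻¹ := by group
            _ = 1 := by rw [hvf, hfinv, one_mul, hf2]
        exact htri a haS ha (by rw [eq_inv_of_mul_eq_one_right h3]; exact inv_mem hbJ)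
      · refine ⟨a * s, mul_mem haS hs, fun h => hsV ?_, ?_⟩
        · have : s = a⁻¹ * (a * s) := by group
          rw [this]
          exact mul_mem (inv_mem (show a ∈ V from Or.inr (Or.inl rfl))) h
        · have h3 : s * f = a * b * f * s := by
            calc s * f = s * f * s⁻¹ * s := by group
              _ = a * b * f * s := by rw [hsf']
          calc f * (a * s) = b * f * s := by rw [← mul_assoc, hfa]
            _ = (a * a) * b * f * s := by rw [ha2, one_mul]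
            _ = a * (a * b * f * s) := by group
            _ = a * s * f := by rw [← h3]; group
    obtain ⟨s', hs', hs'V, hs'f⟩ := hex
    apply hs'V
    have h3 := huniq s' hs' (fun h => hs'V (by rw [h]; exact one_mem _)) hs'f _ (mul_mem haS hbS)
      (hdne a haS ha ha1) (hdiag a haS ha)
    rw [h3]
    exact Or.inr (Or.inr (Or.inr rfl))
  have h3 := hSyl.card_le hRs hR
  have h4 : Nat.card S ≤ Nat.card V := Nat.card_le_card_of_injective _ (Subgroup.inclusion_injective hSV)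
  omega

/-- **(1) of helper832** -/
theorem main {α β : E} (h1 : β ≠ α) (h2 : β ≠ A.σ α) {a b a' : X} (ha : a ∈ A.J α) (ha2 : a * a = 1) (ha1 : a ≠ 1)
    (hb : b ∈ A.J (A.σ α)) (hb2 : b * b = 1) (hb1 : b ≠ 1) (ha' : a' ∈ A.J β) (ha2' : a' * a' = 1) (ha1' : a' ≠ 1) :
    ∃ b' ∈ A.J (A.σ β), b' * b' = 1 ∧ b' ≠ 1 ∧ A.ρ (a' * b') α = A.σ α ∧ A.ρ (a * b) β = A.σ β := by
  have hab := A.Jcomm α a ha b hb
  obtain ⟨h1', h2'⟩ := A.fib_symm h1 h2
  have hx2 : a * b * (a * b) = 1 := by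
    calc a * b * (a * b) = a * (b * a) * b := by group
      _ = a * (a * b) * b := by rw [hab]
      _ = (a * a) * (b * b) := by group
      _ = 1 := by rw [ha2, hb2, one_mul]
  have hx1 : a * b ≠ 1 := by
    intro h
    refine ha1 (A.Jtri α a ha ?_ ha2)
    rw [eq_inv_of_mul_eq_one_left h]
    exact inv_mem hb
  have hxα : A.ρ (a * b) α = α := by
    rw [A.ρmul, A.fix_of_σ (A.Jfix _ b hb), A.Jfix α a ha]
  set x := a * b with hx
  obtain ⟨z, hz2, hz1, hzx, hza, -⟩ := exists_mid hx2 ha2' (by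
    intro m hm
    have h3 := conj_of_odd hx2 ha2' hm
    have h4 := A.Jconj ((x * a') ^ m)⁻¹ β a' ha'
    refine A.A6 α (A.ρ ((x * a') ^ m)⁻¹ β) a ha b hb ha2 ha1 hb2 hb1 ?_
    rw [← hx]
    have e : ((x * a') ^ m)⁻¹ * a' * ((x * a') ^ m)⁻¹⁻¹ = x := by
      calc ((x * a') ^ m)⁻¹ * a' * ((x * a') ^ m)⁻¹⁻¹
          = ((x * a') ^ m)⁻¹ * ((x * a') ^ m * x * ((x * a') ^ m)⁻¹) * ((x * a') ^ m)⁻¹⁻¹ := by rw [h3]
        _ = x := by group
    rwa [e] at h4)
  have hzβ := A.cenJ ha' ha2' ha1' hza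
  have hzα : A.ρ z α = A.σ α := by
    rcases A.cen hx2 hx1 hxα hzx with h | h
    · exact absurd (A.A1 α β h1 h2 z hz2 h hzβ) hz1
    · exact h
  have hmv := A.moves ha' ha2' ha1' h1' h2'
  have hza1 : a' ≠ z := fun h => hmv.2 (by rw [h]; exact hzα)
  -- the four-group `⟨a', z⟩`
  let V : Subgroup X :=
    { carrier := {y | y = 1 ∨ y = a' ∨ y = z ∨ y = a' * z}
      one_mem' := Or.inl rfl
      mul_mem' := by
        rintro p q (rfl | rfl | rfl | rfl) (rfl | rfl | rfl | rfl)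
        · left; rw [one_mul]
        · right; left; rw [one_mul]
        · right; right; left; rw [one_mul]
        · right; right; right; rw [one_mul]
        · right; left; rw [mul_one]
        · left; exact ha2'
        · right; right; right; rfl
        · right; right; left; rw [← mul_assoc, ha2', one_mul]
        · right; right; left; rw [mul_one]
        · right; right; right; rw [hza]
        · left; exact hz2
        · right; left; rw [hza, ← mul_assoc, hz2, one_mul]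
        · right; right; right; rw [mul_one]
        · right; right; left; rw [hza, mul_assoc, ha2', mul_one]
        · right; left; rw [mul_assoc, hz2, mul_one]
        · left
          calc a' * z * (a' * z) = a' * (z * a') * z := by group
            _ = a' * (a' * z) * z := by rw [hza]
            _ = (a' * a') * (z * z) := by group
            _ = 1 := by rw [ha2', hz2, one_mul]
      inv_mem' := by
        rintro p (rfl | rfl | rfl | rfl)
        · left; rw [inv_one]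
        · right; left; exact inv_of_sq ha2'
        · right; right; left; exact inv_of_sq hz2
        · right; right; right
          rw [mul_inv_rev, inv_of_sq ha2', inv_of_sq hz2, hza] }
  have hVmem : ∀ y, y ∈ V ↔ y = 1 ∨ y = a' ∨ y = z ∨ y = a' * z := fun y => Iff.rfl
  have hVsq : ∀ y ∈ V, y * y = 1 := by
    intro y hy
    rcases (hVmem y).mp hy with rfl | rfl | rfl | rfl
    · exact one_mul 1
    · exact ha2'
    · exact hz2
    · calc a' * z * (a' * z) = a' * (z * a') * z := by group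
        _ = a' * (a' * z) * z := by rw [hza]
        _ = (a' * a') * (z * z) := by group
        _ = 1 := by rw [ha2', hz2, one_mul]
  have hV2 : IsPGroup 2 V := isPGroup_of_sq hVsq
  have hVs : V ≤ A.stb β := by
    intro y hy
    have e1 : a' ∈ A.stb β := A.Jfix β a' ha'
    have e2 : z ∈ A.stb β := hzβ
    rcases (hVmem y).mp hy with rfl | rfl | rfl | rfl
    · exact one_mem _
    · exact e1
    · exact e2
    · exact mul_mem e1 e2
  have haz : a' * z ≠ 1 := fun h => hza1 (by rw [eq_inv_of_mul_eq_one_left h, inv_of_sq hz2])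
  have hVcard : 4 ≤ Nat.card V := by
    let f : Fin 4 → V := ![⟨1, Or.inl rfl⟩, ⟨a', Or.inr (Or.inl rfl)⟩, ⟨z, Or.inr (Or.inr (Or.inl rfl))⟩,
      ⟨a' * z, Or.inr (Or.inr (Or.inr rfl))⟩]
    have hf : Function.Injective f := by
      have e01 : (1 : X) ≠ a' := fun h => ha1' h.symm
      have e02 : (1 : X) ≠ z := fun h => hz1 h.symm
      have e03 : (1 : X) ≠ a' * z := fun h => haz h.symm
      have e13 : a' ≠ a' * z := fun h => hz1 (by simpa using h)
      have e23 : z ≠ a' * z := fun h => ha1' (by simpa using h)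
      intro i j hij
      have hij' : ((f i : V) : X) = ((f j : V) : X) := congrArg Subtype.val hij
      fin_cases i <;> fin_cases j <;> simp [f] at hij' ⊢ <;>
        first
        | exact absurd hij' e01
        | exact absurd hij' e02
        | exact absurd hij' e03
        | exact absurd hij' e13
        | exact absurd hij' e23
        | exact absurd hij' hza1
        | exact absurd hij'.symm e01
        | exact absurd hij'.symm e02
        | exact absurd hij'.symm e03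
        | exact absurd hij'.symm e13
        | exact absurd hij'.symm e23
        | exact absurd hij'.symm hza1
        | exact ha1' hij'
        | exact hz1 hij'
        | exact haz hij'
        | skip
    have := Nat.card_le_card_of_injective f hf
    rwa [Nat.card_fin] at this
  have hSyl : IsSyl V (A.stb β) := isSyl_of_max hVs hV2 fun R hR hR2 =>
    (A.card_le_four h1' h2' hR2 hR).trans hVcard
  obtain ⟨j, hj, hj2, hj1⟩ := A.Jinv (A.σ β)
  have hJs : A.J (A.σ β) ≤ A.stb β := by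
    rw [← A.stb_σ β]; exact A.J_le_stb _
  obtain ⟨b', hb', hb'V, hb2', hb1'⟩ := hSyl.exists_inv hJs (fun x hx => A.cj_J (by rw [A.stb_σ]; exact hx)) hj hj2 hj1
  have hb'z : b' = a' * z := by
    rcases (hVmem b').mp hb'V with h | h | h | h
    · exact absurd h hb1'
    · rw [h] at hb'
      exact absurd (A.Jtri β a' ha' hb' ha2') ha1'
    · exfalso
      rw [h] at hb'
      have h3 : α ≠ A.σ β := h2'
      have h4 : α ≠ A.σ (A.σ β) := by rw [A.σσ]; exact h1'
      exact (A.moves hb' hz2 hz1 h3 h4).2 hzα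
    · exact h
  have hzab : a' * b' = z := by
    rw [hb'z, ← mul_assoc, ha2', one_mul]
  refine ⟨b', hb', hb2', hb1', by rw [hzab]; exact hzα, ?_⟩
  rcases A.cen hz2 hz1 hzβ hzx.symm with h | h
  · exact absurd (A.A1 α β h1 h2 x hx2 hxα h) hx1
  · exact h

end

end Act

end Cfsg.Agent.OddHalf.D3.TwoAct

end

-- merged: Cfsg.Agent.OddHalf.D3.TwoBB
section

/-!
# ODD D3 (iii), `n = 2`: reduction to (B2) (texts of helper133, bb ODD 9195, (6), and helper832, bb ODD 9609, (1))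
-/

set_option autoImplicit false

namespace Cfsg.Agent.OddHalf.D3.TwoBB

open Cfsg.Agent.OddHalf.D3.ThreeDefs Cfsg.Agent.OddHalf.D3.ThreeFam Cfsg.Agent.OddHalf.D3.ThreeMain
open Cfsg.Agent.OddHalf.D3.Swap Cfsg.Agent.OddHalf.D3.TwoCfg Cfsg.Agent.OddHalf.D3.TwoNF
open Cfsg.Agent.OddHalf.D3.TwoKey Cfsg.Agent.OddHalf.D3.TwoAct

universe u

variable {G : Type u} [Group G]

/-- the normaliser of `Q` -/
def NQ (Q : Subgroup G) : Subgroup G where
  carrier := {g | cj g Q = Q}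
  one_mem' := cj_one Q
  mul_mem' := fun ha hb => cj_mul_eq ha hb
  inv_mem' := fun ha => cj_inv_eq ha

theorem mem_NQ {Q : Subgroup G} {g : G} : g ∈ NQ Q ↔ cj g Q = Q := Iff.rfl

instance (Q : Subgroup G) : (Q.subgroupOf (NQ Q)).Normal := ⟨fun x hx g => by
  have h1 : (x : G) ∈ Q := hx
  have h2 : (g : G) * x * (g : G)⁻¹ ∈ Q := conj_mem_of_cj g.2 h1
  exact h2⟩

/-- the quotient `N_G(Q) / Q` -/
abbrev XQ (Q : Subgroup G) := NQ Q ⧸ Q.subgroupOf (NQ Q)

/-- the members of the classes stabilised by `Q` -/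
def Ends (𝓒 : Set (Set (Subgroup G))) (Q : Subgroup G) := {A : Subgroup G // ∃ c ∈ 𝓒, Q ≤ Nm c ∧ A ∈ c}

section
variable {𝓒 : Set (Set (Subgroup G))} {Q : Subgroup G}

/-- the action of `N_G(Q)` -/
def actE (F : Fam 𝓒) (g : NQ Q) (A : Ends 𝓒 Q) : Ends 𝓒 Q :=
  ⟨cj (g : G) A.1, by
    obtain ⟨c, hc, hQc, hA⟩ := A.2
    exact ⟨cjs g c, F.conj g c hc, le_Nm_cjs g.2 hQc, cj_mem_cjs hA⟩⟩

theorem actE_val (F : Fam 𝓒) (g : NQ Q) (A : Ends 𝓒 Q) : (actE F g A).1 = cj (g : G) A.1 := rfl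

/-- the permutation representation of `N_G(Q)` -/
def rho0 (F : Fam 𝓒) : NQ Q →* Equiv.Perm (Ends 𝓒 Q) where
  toFun g := ⟨actE F g, actE F g⁻¹, fun A => Subtype.ext (cj_inv_cj _ _), fun A => Subtype.ext (cj_cj_inv _ _)⟩
  map_one' := Equiv.ext fun A => Subtype.ext (cj_one _)
  map_mul' := fun a b => Equiv.ext fun A => Subtype.ext (cj_mul _ _ _)

theorem rho0_val (F : Fam 𝓒) (g : NQ Q) (A : Ends 𝓒 Q) : (rho0 F g A).1 = cj (g : G) A.1 := rfl

/-- the permutation representation of `N_G(Q) / Q` -/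
def rho (F : Fam 𝓒) : XQ Q →* Equiv.Perm (Ends 𝓒 Q) :=
  QuotientGroup.lift (Q.subgroupOf (NQ Q)) (rho0 F) (by
    intro x hx
    refine Equiv.ext fun A => Subtype.ext ?_
    obtain ⟨c, hc, hQc, hA⟩ := A.2
    exact hQc hx A.1 hA)

theorem rho_val (F : Fam 𝓒) (g : NQ Q) (A : Ends 𝓒 Q) : (rho F (g : XQ Q) A).1 = cj (g : G) A.1 := rfl

theorem exists_partner (F : Fam 𝓒) (A : Ends 𝓒 Q) : ∃ B : Ends 𝓒 Q, B.1 ≠ A.1 ∧ ∃ c ∈ 𝓒, Q ≤ Nm c ∧ A.1 ∈ c ∧ B.1 ∈ c := by
  obtain ⟨c, hc, hQc, hA⟩ := A.2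
  obtain ⟨B, hB, hne⟩ := F.two c hc A.1
  exact ⟨⟨B, c, hc, hQc, hB⟩, hne, c, hc, hQc, hA, hB⟩

/-- the partner -/
noncomputable def partner (F : Fam 𝓒) (A : Ends 𝓒 Q) : Ends 𝓒 Q := (exists_partner F A).choose

theorem partner_ne (F : Fam 𝓒) (A : Ends 𝓒 Q) : (partner F A).1 ≠ A.1 := (exists_partner F A).choose_spec.1

theorem partner_mem (F : Fam 𝓒) (A : Ends 𝓒 Q) : ∃ c ∈ 𝓒, Q ≤ Nm c ∧ A.1 ∈ c ∧ (partner F A).1 ∈ c :=
  (exists_partner F A).choose_spec.2

theorem partner_eq (F : Fam2 𝓒) {A B : Ends 𝓒 Q} (hne : B.1 ≠ A.1) {c : Set (Subgroup G)} (hc : c ∈ 𝓒) (hA : A.1 ∈ c)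
    (hB : B.1 ∈ c) : partner F.toFam A = B := by
  obtain ⟨c', hc', hQc', hA', hP⟩ := partner_mem F.toFam A
  have h1 := class_unique F.toFam hc hc' hA hA'
  subst h1
  rcases F.le2 c hc A.1 hA B.1 hB _ hP with h | h | h
  · exact absurd h.symm hne
  · exact absurd h.symm (partner_ne F.toFam A)
  · exact Subtype.ext h.symm

/-- the subgroup `N_A(Q) Q / Q` -/
def JQ (Q A : Subgroup G) : Subgroup (XQ Q) :=
  (A.subgroupOf (NQ Q)).map (QuotientGroup.mk' (Q.subgroupOf (NQ Q)))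

theorem mem_JQ {Q A : Subgroup G} {t : XQ Q} : t ∈ JQ Q A ↔ ∃ s : NQ Q, (s : G) ∈ A ∧ (s : XQ Q) = t := by
  unfold JQ
  rw [Subgroup.mem_map]
  rfl

theorem mk_eq_one {Q : Subgroup G} {s : NQ Q} : (s : XQ Q) = 1 ↔ (s : G) ∈ Q := by
  rw [QuotientGroup.eq_one_iff]
  rfl

theorem mk_eq_mk {Q : Subgroup G} {s t : NQ Q} : (s : XQ Q) = (t : XQ Q) ↔ (s : G)⁻¹ * t ∈ Q := by
  rw [QuotientGroup.eq]
  rfl

/-- involutions of `JQ` come from witnesses -/
theorem wit_of_mem {A : Subgroup G} {t : XQ Q} (ht : t ∈ JQ Q A) (ht2 : t * t = 1) (ht1 : t ≠ 1) :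
    ∃ s : NQ Q, Wit Q A s ∧ (s : XQ Q) = t := by
  obtain ⟨s, hsA, rfl⟩ := mem_JQ.mp ht
  refine ⟨s, ⟨hsA, s.2, fun h => ht1 (mk_eq_one.mpr h), ?_⟩, rfl⟩
  have h1 : ((s * s : NQ Q) : XQ Q) = 1 := ht2
  exact mk_eq_one.mp h1

/-- different classes -/
theorem class_ne (F : Fam2 𝓒) {α β : Ends 𝓒 Q} (h1 : β ≠ α) (h2 : β ≠ partner F.toFam α) {c d : Set (Subgroup G)}
    (hc : c ∈ 𝓒) (hα : α.1 ∈ c) (hβ : β.1 ∈ d) : c ≠ d := by
  rintro rfl
  exact h2 (partner_eq F (fun h => h1 (Subtype.ext h)) hc hα hβ).symm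

/-- **the action** -/
noncomputable def act [Finite G] (F : Fam2 𝓒) (C : NF 𝓒 Q) : Act (XQ Q) (Ends 𝓒 Q) where
  ρ := rho F.toFam
  σ := partner F.toFam
  σσ := by
    intro α
    obtain ⟨c, hc, hQc, hα, hP⟩ := partner_mem F.toFam α
    exact partner_eq F (Ne.symm (partner_ne F.toFam α)) hc hP hα
  σne := fun α h => partner_ne F.toFam α (congrArg Subtype.val h)
  σeq := by
    intro x α
    obtain ⟨g, rfl⟩ := QuotientGroup.mk_surjective x
    obtain ⟨c, hc, hQc, hα, hP⟩ := partner_mem F.toFam α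
    refine partner_eq F ?_ (F.conj g c hc) (cj_mem_cjs hα) (cj_mem_cjs hP)
    exact fun h => partner_ne F.toFam α (cj_injective _ h)
  J := fun α => JQ Q α.1
  Jfix := by
    intro α t ht
    obtain ⟨s, hs, rfl⟩ := mem_JQ.mp ht
    exact Subtype.ext (cj_eq_of_mem hs)
  Jconj := by
    intro x α y hy
    obtain ⟨g, rfl⟩ := QuotientGroup.mk_surjective x
    obtain ⟨s, hs, rfl⟩ := mem_JQ.mp hy
    refine mem_JQ.mpr ⟨g * s * g⁻¹, ?_, rfl⟩
    exact conj_mem_cj hs
  Jinv := by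
    intro α
    obtain ⟨c, hc, hQc, hα⟩ := α.2
    obtain ⟨s, w⟩ := C.wit c hc hQc α.1 hα
    refine ⟨((⟨s, w.norm⟩ : NQ Q) : XQ Q), mem_JQ.mpr ⟨⟨s, w.norm⟩, w.mem, rfl⟩, ?_, ?_⟩
    · change (((⟨s, w.norm⟩ : NQ Q) * ⟨s, w.norm⟩ : NQ Q) : XQ Q) = 1
      rw [mk_eq_one]
      exact w.sq
    · intro h
      exact w.not (mk_eq_one.mp h)
  Jcomm := by
    intro α a ha b hb
    obtain ⟨s, hs, rfl⟩ := mem_JQ.mp ha
    obtain ⟨t, ht, rfl⟩ := mem_JQ.mp hb
    obtain ⟨c, hc, hQc, hα, hP⟩ := partner_mem F.toFam α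
    change ((s * t : NQ Q) : XQ Q) = ((t * s : NQ Q) : XQ Q)
    congr 1
    exact Subtype.ext (F.comm c hc α.1 hα _ hP (Ne.symm (partner_ne F.toFam α)) s hs t ht)
  Jtri := by
    intro α t ht ht' ht2
    by_contra ht1
    obtain ⟨s, w, hst⟩ := wit_of_mem ht ht2 ht1
    obtain ⟨s', hs', hst'⟩ := mem_JQ.mp ht'
    obtain ⟨c, hc, hQc, hα, hP⟩ := partner_mem F.toFam α
    have h1 : (s : G)⁻¹ * s' ∈ Q := mk_eq_mk.mp (hst.trans hst'.symm)
    refine key F C.toCfg hc hQc hα w h1 ?_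
    intro a ha
    have e : (s : G) * ((s : G)⁻¹ * s') = s' := by group
    rw [e]
    exact (F.comm c hc α.1 hα _ hP (Ne.symm (partner_ne F.toFam α)) a ha s' hs').symm
  A1 := by
    intro α β h1 h2 t ht2 hα hβ
    obtain ⟨g, rfl⟩ := QuotientGroup.mk_surjective t
    obtain ⟨c, hc, hQc, hαc⟩ := α.2
    obtain ⟨d, hd, hQd, hβd⟩ := β.2
    have hcd := class_ne F h1 h2 hc hαc hβd
    have h3 : cj (g : G) α.1 = α.1 := congrArg Subtype.val hα
    have h4 : cj (g : G) β.1 = β.1 := congrArg Subtype.val hβ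
    have h5 : ((g * g : NQ Q) : XQ Q) = 1 := ht2
    rw [mk_eq_one] at h5
    change ((g : NQ Q) : XQ Q) = 1
    rw [mk_eq_one]
    exact C.mem_of_norm hc hd hcd hQc hQd (sq_pgroup C.pg h5) g.2 (mem_Nm_of_cj F hc hαc h3) (mem_Nm_of_cj F hd hβd h4)
  A6 := by
    intro α β a ha b hb ha2 ha1 hb2 hb1 hab
    obtain ⟨s, w, rfl⟩ := wit_of_mem ha ha2 ha1
    obtain ⟨t, w', rfl⟩ := wit_of_mem hb hb2 hb1
    obtain ⟨r, hr, hrt⟩ := mem_JQ.mp hab
    obtain ⟨c, hc, hQc, hα, hP⟩ := partner_mem F.toFam α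
    obtain ⟨d, hd, hQd, hβ⟩ := β.2
    have h1 : ((s * t : NQ Q) : G)⁻¹ * r ∈ Q := mk_eq_mk.mp hrt.symm
    refine not_prod F C hc hd hQc hQd hα hP (partner_ne F.toFam α) hβ w w' h1 ?_
    have e : (s : G) * t * (((s * t : NQ Q) : G)⁻¹ * r) = r := by push_cast; group
    rw [e]
    exact hr

/-- **The configuration (B2).** -/
theorem exists_conf [Finite G] (F : Fam2 𝓒) (C : NF 𝓒 Q) :
    ∃ Λ ∈ 𝓒, ∃ Λ' ∈ 𝓒, Λ ≠ Λ' ∧ Q ≤ Nm Λ ∧ Q ≤ Nm Λ' ∧ ∃ L1 ∈ Λ, ∃ L2 ∈ Λ, ∃ M1 ∈ Λ', ∃ M2 ∈ Λ', L2 ≠ L1 ∧ M2 ≠ M1 ∧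
      ∃ g1 g2 h1 h2 : G, Wit Q L1 g1 ∧ Wit Q L2 g2 ∧ Wit Q M1 h1 ∧ Wit Q M2 h2 ∧
        cj (h1 * h2) L1 = L2 ∧ cj (g1 * g2) M1 = M2 := by
  obtain ⟨c, hc, d, hd, hcd, hQc, hQd⟩ := C.ex
  obtain ⟨L1, hL1, -⟩ := F.two c hc ⊥
  obtain ⟨M1, hM1, -⟩ := F.two d hd ⊥
  set A := act F C with hA
  let α : Ends 𝓒 Q := ⟨L1, c, hc, hQc, hL1⟩
  let β : Ends 𝓒 Q := ⟨M1, d, hd, hQd, hM1⟩
  have h1 : β ≠ α := by
    intro h
    have h3 : M1 = L1 := congrArg Subtype.val h
    subst h3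
    exact hcd (class_unique F.toFam hc hd hL1 hM1)
  obtain ⟨c', hc', hQc', hα, hP⟩ := partner_mem F.toFam α
  have hcc : c' = c := class_unique F.toFam hc' hc hα hL1
  subst hcc
  obtain ⟨d', hd', hQd', hβ, hP'⟩ := partner_mem F.toFam β
  have hdd : d' = d := class_unique F.toFam hd' hd hβ hM1
  subst hdd
  have h2 : β ≠ A.σ α := by
    intro h
    have h3 : M1 = (partner F.toFam α).1 := congrArg Subtype.val h
    rw [← h3] at hP
    exact hcd (class_unique F.toFam hc hd hP hM1)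
  obtain ⟨a, ha, ha2, ha1⟩ := A.Jinv α
  obtain ⟨b, hb, hb2, hb1⟩ := A.Jinv (A.σ α)
  obtain ⟨a', ha', ha2', ha1'⟩ := A.Jinv β
  obtain ⟨b', hb', hb2', hb1', e1, e2⟩ := A.main h1 h2 ha ha2 ha1 hb hb2 hb1 ha' ha2' ha1'
  obtain ⟨g1, w1, rfl⟩ := wit_of_mem ha ha2 ha1
  obtain ⟨g2, w2, rfl⟩ := wit_of_mem hb hb2 hb1
  obtain ⟨k1, w3, rfl⟩ := wit_of_mem ha' ha2' ha1'
  obtain ⟨k2, w4, rfl⟩ := wit_of_mem hb' hb2' hb1'
  refine ⟨c', hc, d', hd, hcd, hQc, hQd, L1, hL1, (partner F.toFam α).1, hP, M1, hM1, (partner F.toFam β).1, hP',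
    partner_ne F.toFam α, partner_ne F.toFam β, g1, g2, k1, k2, w1, w2, w3, w4, ?_, ?_⟩
  · exact congrArg Subtype.val e1
  · exact congrArg Subtype.val e2

end

end Cfsg.Agent.OddHalf.D3.TwoBB

end
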